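import Cfsg.Agent.FixBN.SplitRGD
import Cfsg.Agent.Omega.ML.LieRow.SzSplit
import Cfsg.Agent.ParSys.Fam.TwoFFour
import Cfsg.Agent.Omega.Lie.End.RowFin
import Cfsg.Agent.Omega.CR.KDiagAll

/-!
# Split (B,N)-pairs of characteristic 2 with `B / U` abelian

**`hasSplitAb_of_lie`** : every simple group of Lie type in characteristic two has one.
-/

set_option autoImplicit false
set_option linter.unusedSectionVars false

namespace Cfsg.Agent.Omega.ML.LieRow.CRB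

open Subgroup CoxeterSystem Cfsg.Agent.ChevalleyStructure.CoxeterGeom Cfsg.Agent.Tits.Roots Cfsg.Agent.Tits.Core
  Cfsg.Agent.Tits.RootComb Cfsg.Agent.Nodes.Comb Cfsg.Agent.Nodes.Reps Cfsg.Agent.Nodes.BNOf
open Cfsg.Agent.FixBN Cfsg.Agent.FixBN.SplitRGD Cfsg.Agent.Omega.Lie.End

/-- A split (B,N)-pair of characteristic `p`, of positive rank, with `B / U` abelian. -/
def HasSplitAb (p : ℕ) (K : Type*) [Group K] : Prop :=
  ∃ (P : Cfsg.BNPair K) (U : Subgroup K), P.S.Nonempty ∧ Split P p U ∧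
    ∀ x ∈ P.B, ∀ y ∈ P.B, x * y * x⁻¹ * y⁻¹ ∈ U

theorem HasSplitAb.congr {p : ℕ} {K L : Type*} [Group K] [Group L] (e : K ≃* L) (h : HasSplitAb p K) :
    HasSplitAb p L := by
  obtain ⟨P, U, hne, hs, hc⟩ := h
  refine ⟨Transport.mapBN e P, U.map e.toMonoidHom, hne.image _, Transport.split e P hs, ?_⟩
  rintro _ ⟨x, hx, rfl⟩ _ ⟨y, hy, rfl⟩
  exact ⟨_, hc x hx y hy, by simp⟩

theorem comm_of_dec {G : Type*} [Group G] {B U : Subgroup G} {D : Set G} (hn : ∀ b ∈ B, ∀ u ∈ U, b * u * b⁻¹ ∈ U)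
    (hDB : ∀ t ∈ D, t ∈ B) (hd : ∀ b ∈ B, ∃ u ∈ U, ∃ t ∈ D, b = u * t) (hab : ∀ s ∈ D, ∀ t ∈ D, s * t = t * s) :
    ∀ x ∈ B, ∀ y ∈ B, x * y * x⁻¹ * y⁻¹ ∈ U := by
  intro x hx y hy
  obtain ⟨u, hu, t, ht, rfl⟩ := hd x hx
  obtain ⟨v, hv, s, hs, rfl⟩ := hd y hy
  have h1 := hn t (hDB t ht) v hv
  have h2 := hn s (hDB s hs) u⁻¹ (inv_mem hu)
  have e : u * t * (v * s) * (u * t)⁻¹ * (v * s)⁻¹ = u * (t * v * t⁻¹) * (s * u⁻¹ * s⁻¹) * v⁻¹ := by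
    have h3 := hab t ht s hs
    have h4 : t * s * t⁻¹ = s := by rw [h3]; group
    calc u * t * (v * s) * (u * t)⁻¹ * (v * s)⁻¹ = u * (t * v * t⁻¹) * ((t * s * t⁻¹) * u⁻¹ * s⁻¹) * v⁻¹ := by group
      _ = _ := by rw [h4]
  rw [e]
  exact mul_mem (mul_mem (mul_mem hu h1) h2) (inv_mem hv)

section rgd

variable {I W Y : Type*} [Fintype I] [DecidableEq I] [Group W] [Group Y] {M : CoxeterMatrix I}
  {cs : CoxeterSystem M W} {A : I → I → ℤ} {h : IsCartan M A} {p : ℕ} {T : Subgroup Y} {n : I → Y}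
  {X : (I → ℤ) → Subgroup Y}

theorem hasSplitAb_of_rgd [Finite W] [Nonempty I] [IsSimpleGroup Y] (hp : p.Prime) (R : RGD cs h p T n X)
    (hgen : RGD.Sup X {x | IsRoot cs h x} = ⊤) (ab : ∀ s ∈ T, ∀ t ∈ T, s * t = t * s) : HasSplitAb p Y := by
  obtain ⟨i⟩ := (inferInstance : Nonempty I)
  have hg := NodeRGD.gen_of_top R hgen
  have hne : (R.bnPair hg).S.Nonempty := ⟨n i, i, rfl⟩
  have hs := split_of_rgd hp R hg (Cfsg.Agent.Tits.OfBN.normalCore_eq_bot (R.bnPair hg) hne)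
  refine ⟨R.bnPair hg, _, hne, hs, ?_⟩
  refine comm_of_dec (D := (T : Set Y)) hs.norm (fun t ht => ?_) (fun b hb => ?_) ab
  · exact (le_sup_left : T ≤ RGD.B cs h T X) ht
  · obtain ⟨u, hu, hT⟩ := NodeRGD.cover R (show b ∈ RGD.B cs h T X from hb)
    exact ⟨u, hu, u⁻¹ * b, hT, by group⟩

end rgd

universe u

theorem hasSplitAb_of_row {Y : Type*} [Group Y] [IsSimpleGroup Y] (h : HasRow Y) : HasSplitAb 2 Y := by
  obtain ⟨l, M, A, h, T, n, X, hW, R, hX, hr⟩ := h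
  obtain ⟨i, -⟩ := hr.two
  have : Nonempty (Fin l) := ⟨i⟩
  exact hasSplitAb_of_rgd Nat.prime_two R hX hr.ab

theorem hasSplitAb_of_two {Y : Type*} [Group Y] [IsSimpleGroup Y] (h : IsLTwo Y) : HasSplitAb 2 Y := by
  obtain ⟨F, _, _, _, -, ⟨e⟩⟩ := h
  obtain ⟨A, h, T, n, X, hW, R, hX, hab⟩ := CR.psl_rgd e.symm
  exact hasSplitAb_of_rgd Nat.prime_two R hX hab

section U3

open Cfsg.Agent.Nodes.TypeC Cfsg.Agent.Nodes.WittRoot Cfsg.Agent.Nodes Cfsg.Agent.Nodes.WittAll Cfsg.Agent.Nodes.WittU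
open Cfsg.Agent.TitsThree Cfsg.Agent.TitsThree.Siegel Cfsg.Agent.TitsThree.SiegelGen Cfsg.Agent.TitsThree.WittFrame
open Cfsg.Agent.Omega.Lie.End.KWittRow Cfsg.Agent.Omega.Lie.End.KWittFour Cfsg.Agent.Omega.Lie.End.RowWitt
open Cfsg.Agent.TitsThree.KSideU Cfsg.Agent.TitsThree.KSideUDesc Cfsg.Agent.TitsThree.WBridge

theorem hasSplitAb_of_three {Y : Type*} [Group Y] [IsSimpleGroup Y] (h : IsUThree Y) : HasSplitAb 2 Y := by
  obtain ⟨F, _, _, _, q, hF, hq, ⟨e⟩⟩ := h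
  have hs : IsSimpleGroup (Cfsg.PSU 3 F q) := e.symm.isSimpleGroup
  refine HasSplitAb.congr e.symm ?_
  have : Fact (Nat.Prime 2) := ⟨Nat.prime_two⟩
  have hm : 3 = 2 * 1 ∨ 3 = 2 * 1 + 1 := Or.inr rfl
  obtain ⟨W, -⟩ := exists_wframe hF hm
  obtain ⟨p0, hp0, -⟩ := exists_adm hF W
  have hA : AmbT (toFrame W) 2 (KInstU.model hF (by omega : 3 ≤ 3) W).I := AmbT.of_amb (amb_U hF W) 2
  have hdim := finrank_V0 (Fr := toFrame W)
  rw [Module.finrank_fintype_fun_eq_card, Fintype.card_fin] at hdim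
  have hfin : Finite (CoxeterMatrix.B 1).Group := finite_W (CoxeterMatrix.B 1).toCoxeterSystem
  have R := rgdC_model (KInstU.model hF (by omega : 3 ≤ 3) W) hA hp0 (CoxeterMatrix.B 1).toCoxeterSystem
  have hG := WittModel.G1_eq_top (KInstU.model hF (by omega : 3 ≤ 3) W) (by omega : 0 < 1)
    (CoxeterMatrix.B 1).toCoxeterSystem
  refine hasSplitAb_of_rgd Nat.prime_two R hG (ab_model hA ?_)
  have h1 : Module.finrank F ↥(toFrame W).V0 ≤ 1 := by omega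
  obtain ⟨v, hv⟩ := finrank_le_one_iff.1 h1
  refine ⟨v.1, fun w hw => ?_⟩
  obtain ⟨c, hc⟩ := hv ⟨w, hw⟩
  exact ⟨c, (congrArg Subtype.val hc).symm⟩

end U3

theorem hasSplitAb_of_sz {G : Type*} [Group G] (h : Cfsg.Lie.IsoSuzuki G) : HasSplitAb 2 G := by
  obtain ⟨K, i1, i2, m, hm, hK, ⟨e⟩⟩ := h
  have H := LieRecognition.SzMatrix.good hK
  have hs : IsSimpleGroup ↥(Cfsg.Lie.Sz K (2 ^ (m + 1))) := Cfsg.Agent.S1162.result hm hK
  refine HasSplitAb.congr e.symm ⟨SzSplit.bnPair H, H.unip, ⟨H.w, rfl⟩, SzSplit.split hm hK H hs, ?_⟩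
  refine comm_of_dec (D := {g | ∃ a, g = H.d a}) (SzSplit.split hm hK H hs).norm ?_ ?_ ?_
  · rintro _ ⟨a, rfl⟩
    exact H.d_mem_borel a
  · intro b hb
    obtain ⟨a, c, k, rfl⟩ := (H.mem_borel_iff' b).1 hb
    exact ⟨H.u a c, H.u_mem_unip a c, _, ⟨k, rfl⟩, rfl⟩
  · rintro _ ⟨a, rfl⟩ _ ⟨b, rfl⟩
    rw [H.d_mul, H.d_mul, mul_comm]

theorem hasSplitAb_of_twF4 {G : Type*} [Group G] (h : Cfsg.Lie.Iso2F4 G) : HasSplitAb 2 G := by
  obtain ⟨K, i1, i2, m, hm, hK, ⟨e⟩⟩ := h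
  obtain ⟨Q, UE, s, t, hp, -⟩ := ParSys.Fam.TwoFFour.exists_all hm hK
  refine HasSplitAb.congr e.symm ⟨Q, UE, ⟨s, ?_⟩, hp.split, hp.comm⟩
  rw [hp.S]
  exact Set.mem_insert _ _

/-- **The simple groups of Lie type in characteristic two.** -/
theorem hasSplitAb_of_lie {Y : Type u} [Group Y] [Finite Y] (hs : IsSimpleGroup Y) (hY : IsLieTypeChar 2 Y) :
    HasSplitAb 2 Y := by
  rcases kTable Y hs hY with h | h | h | h | h
  · exact hasSplitAb_of_row h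
  · exact hasSplitAb_of_two h
  · exact hasSplitAb_of_three h
  · exact hasSplitAb_of_sz h
  · exact hasSplitAb_of_twF4 h

end Cfsg.Agent.Omega.ML.LieRow.CRB
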