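import Cfsg.Agent.Omega.ML.LieRow.CRB.Kt
import Cfsg.Agent.Omega.ML.LieRow.CRB.AbB
import Cfsg.Agent.Omega.ML.LieRow.Lie
import Cfsg.Agent.Omega.ML.Ex.Two

/-!
# (E3) of EXT : the components of Lie type in characteristic two

* `fix_lie` : `H = KT`, `K` normal and simple of Lie type in characteristic 2, `M` an irreducible `H`-module over
  `F_2`, `T ≤ R` fixes `y ≠ 1`: `R` fixes all `T`-fixed vectors;
* **`lieT : LieT`**.
-/

set_option autoImplicit false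

namespace Cfsg.Agent.Omega.ML.LieRow.CRB

open Subgroup Cfsg Cfsg.Agent.ZN Cfsg.Agent.Omega.ML.Ex Cfsg.Agent.Omega.ML.Ex.Two
open Cfsg.Agent.Tits.Core Cfsg.Agent.Tits.OfBN Cfsg.Agent.Schreier.BNSch Cfsg.Agent.FixBN

universe u v

theorem fix_splitAb {H : Type*} [Group H] [Finite H] {K T R : Subgroup H} (hK : K.Normal) (h : HasSplitAb 2 K)
    (hT : IsPGroup 2 T) (hTi : ¬ 2 ∣ T.index) (hKT : K ⊔ T = ⊤) {N : Type*} [Group N] [MulDistribMulAction H N]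
    [Finite N] (sq : ∀ m : N, m * m = 1) (hirr : ∀ L : Subgroup N, (∀ h : H, ∀ w ∈ L, h • w ∈ L) → L = ⊥ ∨ L = ⊤)
    (hTR : T ≤ R) {y : N} (hy : y ≠ 1) (hyR : ∀ r ∈ R, r • y = y) :
    ∀ r ∈ R, ∀ x : N, (∀ t ∈ T, t • x = x) → r • x = x := by
  have : Fact (Nat.Prime 2) := ⟨Nat.prime_two⟩
  obtain ⟨P, U, hne, h, hc⟩ := h
  have hN : ((P.B ⊓ P.N).subgroupOf P.N).Normal := normal_subgroupOf P
  obtain ⟨M, cs, hcs⟩ := S0320.result P
  have hI : Finite P.S := OfBN.finite_I (Equiv.refl P.S)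
  have hIn : Nonempty P.S := hne.to_subtype
  let S := OfBN.sys (Equiv.refl P.S) cs hcs h
  have hth := thick P (Equiv.refl P.S) cs hcs
  refine fix_kt_mul S hth sq hirr hKT hT hTi ?_ hTR hy hyR
  intro c a b ha hb
  induction c using QuotientGroup.induction_on with
  | _ g =>
    have ha' := OfBN.smul_mk_eq.1 ha
    have hb' := OfBN.smul_mk_eq.1 hb
    have h1 := hc _ ha' _ hb'
    show _ ∈ OfBN.UU P U (QuotientGroup.mk g)
    rw [OfBN.mem_UU h]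
    have e : g⁻¹ * a * g * (g⁻¹ * b * g) * (g⁻¹ * a * g)⁻¹ * (g⁻¹ * b * g)⁻¹ = g⁻¹ * (a * b * a⁻¹ * b⁻¹) * g := by
      group
    rwa [e] at h1

/-- **(E3)** -/
theorem lieT : LieT.{u, v} := by
  intro H _ _ M _ _ _ K T A x y hI hm hl
  obtain ⟨R, hTR, hyR, r, hr, hrx⟩ := hm.mv
  exact hrx (fix_splitAb hI.norm (hasSplitAb_of_lie hI.simple hl) hI.two hI.syl hI.gen hI.sq hI.irr hTR hm.y1 hyR
    r hr x hm.tx)

end Cfsg.Agent.Omega.ML.LieRow.CRB
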