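import Cfsg.Agent.Omega.ML.LieRow.CRB.Over

/-!
# Overgroups of `T` fixing a vector, `H = KT`

* `fix_kt` : `H = KT`, `K` normal with a split (B,N)-pair of characteristic 2 whose torus is abelian, `V` an irreducible
  `H`-module over `F_2`, `T ≤ R` fixes `y ≠ 0`: `R` fixes all `T`-fixed vectors;
* `fix_kt_mul` : the same in multiplicative notation.
-/

set_option autoImplicit false
set_option linter.unusedSectionVars false

namespace Cfsg.Agent.Omega.ML.LieRow.CRB

open Cfsg.Agent.Tits.Core Cfsg.Agent.Tits.Core.Bldg Cfsg.Agent.Tits.Exchange Cfsg.Agent.Tits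
open Cfsg.Agent.FixBN Cfsg.Agent.FixBN.Cox Cfsg.Agent.UGT.U2.FOne

variable {I : Type*} {M : CoxeterMatrix I} {W : Type*} [Group W] {cs : CoxeterSystem M W} {C : Type*}
  {Δ : Bldg cs C}

/-- a Sylow 2-subgroup of `H` meets `K` in some `U c` -/
theorem exists_U {H : Type*} [Group H] [Finite H] {K T : Subgroup H} [K.Normal] [MulAction K C] (S : Sys Δ K 2)
    (hT : IsPGroup 2 T) (hTi : ¬ 2 ∣ T.index) : ∃ c : C, S.U c = T.subgroupOf K := by
  have hV : IsPGroup 2 (T.subgroupOf K) := hT.comap_of_injective _ K.subtype_injective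
  obtain ⟨c, hc⟩ := S.exists_fix _ hV
  have h1 : T.subgroupOf K ≤ S.U c := S.max c _ hV hc
  have : Fact (Nat.Prime 2) := ⟨Nat.prime_two⟩
  have h2 : ¬ 2 ∣ (T.subgroupOf K).index := Lib.SylowNormalInf.not_dvd_relIndex (hT.toSylow hTi) K
  exact ⟨c, (hV.toSylow h2 : Sylow 2 K).is_maximal' (S.isP c) h1⟩

/-- **overgroups of `T`** -/
theorem fix_kt [F : OppRes.Cox cs] [Finite C] {H : Type*} [Group H] [Finite H] {K T R : Subgroup H} [hK : K.Normal]
    [MulAction K C] (S : Sys Δ K 2) (hth : Δ.Thick) {V : Type*} [AddCommGroup V] [DistribMulAction H V] [Finite V]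
    (hp : ∀ v : V, 2 • v = 0) (hirr : Irr H V) (hKT : K ⊔ T = ⊤) (hT : IsPGroup 2 T) (hTi : ¬ 2 ∣ T.index)
    (hab : ∀ c, ∀ a b : K, a • c = c → b • c = c → a * b * a⁻¹ * b⁻¹ ∈ S.U c) (hTR : T ≤ R)
    {y : V} (hy : y ≠ 0) (hyR : ∀ r ∈ R, r • y = y) : ∀ r ∈ R, ∀ x : V, (∀ t ∈ T, t • x = x) → r • x = x := by
  have : Fact (Nat.Prime 2) := ⟨Nat.prime_two⟩
  obtain ⟨c, hUc⟩ := exists_U S hT hTi
  -- a maximal `K`-submodule
  have hne : {L : AddSubgroup V | L ≠ ⊤ ∧ ∀ k ∈ K, ∀ v ∈ L, k • v ∈ L}.Nonempty :=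
    ⟨⊥, (by
      intro h
      have h1 : y ∈ (⊥ : AddSubgroup V) := by rw [h]; trivial
      exact hy ((AddSubgroup.mem_bot).1 h1)), fun k _ v hv => by
        rw [AddSubgroup.mem_bot] at hv ⊢; rw [hv, smul_zero]⟩
  obtain ⟨L, hL⟩ := (Set.toFinite _).exists_maximal hne
  obtain ⟨hL1, hL2⟩ := hL.prop
  -- the intersection of the `T`-conjugates
  have hZ : ∀ v : V, (∀ t ∈ T, t • v ∈ L) → v = 0 := by
    let Z : AddSubgroup V :=
      { carrier := {v | ∀ t ∈ T, t • v ∈ L}
        zero_mem' := fun t _ => by rw [smul_zero]; exact zero_mem _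
        add_mem' := fun {a b} ha hb t ht => by rw [smul_add]; exact add_mem (ha t ht) (hb t ht)
        neg_mem' := fun {a} ha t ht => by rw [smul_neg]; exact neg_mem (ha t ht) }
    have hm : ∀ v, v ∈ Z ↔ ∀ t ∈ T, t • v ∈ L := fun v => Iff.rfl
    rcases hirr Z (by
      intro h v hv t ht
      have h1 : h ∈ K ⊔ T := by rw [hKT]; trivial
      rw [Subgroup.mem_sup_of_normal_left] at h1
      obtain ⟨k, hk, t', ht', rfl⟩ := h1
      have h2 := hv (t * t') (mul_mem ht ht')
      have h3 := hL2 (t * k * t⁻¹) (hK.conj_mem k hk t) _ h2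
      have e : (t * k * t⁻¹) • (t * t') • v = t • (k * t') • v := by
        rw [smul_smul, smul_smul]
        congr 1
        group
      rwa [e] at h3) with h1 | h1
    · intro v hv
      have h2 : v ∈ Z := hv
      rw [h1] at h2
      exact (AddSubgroup.mem_bot).1 h2
    · exfalso
      apply hL1
      rw [eq_top_iff]
      intro v _
      have h2 : v ∈ Z := by rw [h1]; trivial
      have h3 := h2 1 (one_mem _)
      rwa [one_smul] at h3
  have hyL : y ∉ L := by
    intro h
    apply hy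
    apply hZ
    intro t ht
    rw [hyR t (hTR ht)]
    exact h
  -- the quotient module
  have hLK : ∀ k : K, ∀ v ∈ L, k • v ∈ L := fun k v hv => hL2 k k.2 v hv
  let _ := quoAct L hLK
  have hp' : ∀ v : V ⧸ L, 2 • v = 0 := by
    intro x
    induction x using QuotientAddGroup.induction_on with
    | H v =>
      rw [← QuotientAddGroup.mk_nsmul, hp]
      rfl
  have hirr' : Irr K (V ⧸ L) := by
    intro L' hL'
    let L'' : AddSubgroup V := L'.comap (QuotientAddGroup.mk' L)
    have hm : ∀ v, v ∈ L'' ↔ (QuotientAddGroup.mk v : V ⧸ L) ∈ L' := fun v => Iff.rfl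
    have hLL : L ≤ L'' := by
      intro v hv
      rw [hm, (QuotientAddGroup.eq_zero_iff v).2 hv]
      exact zero_mem _
    by_cases h1 : L'' = ⊤
    · right
      rw [eq_top_iff]
      intro x _
      induction x using QuotientAddGroup.induction_on with
      | H v =>
        have : v ∈ L'' := by rw [h1]; trivial
        exact this
    · left
      have h2 : L'' ≤ L := hL.le_of_ge ⟨h1, fun k hk v hv => hL' ⟨k, hk⟩ _ hv⟩ hLL
      rw [eq_bot_iff]
      intro x hx
      induction x using QuotientAddGroup.induction_on with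
      | H v =>
        rw [AddSubgroup.mem_bot, QuotientAddGroup.eq_zero_iff]
        exact h2 hx
  have hUR : S.U c ≤ R.subgroupOf K := by
    rw [hUc]
    exact fun k hk => hTR hk
  have hy' : (QuotientAddGroup.mk y : V ⧸ L) ≠ 0 := fun h => hyL ((QuotientAddGroup.eq_zero_iff y).1 h)
  have key := fix_all S (V := V ⧸ L) hth hp' hirr' (c := c) (hab c) hUR hy' (by
    intro r hr
    rw [quo_smul]
    congr 1
    exact hyR r hr)
  have key' : ∀ k ∈ K, k ∈ R → ∀ x : V, (∀ t ∈ T, t • x = x) → k • x - x ∈ L := by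
    intro k hk hkR x hx
    have h1 : (QuotientAddGroup.mk x : V ⧸ L) ∈ Fx (V := V ⧸ L) S c := by
      intro u hu
      rw [hUc] at hu
      rw [quo_smul]
      congr 1
      exact hx u hu
    have h2 := key ⟨k, hk⟩ hkR _ h1
    rw [quo_smul] at h2
    exact (QuotientAddGroup.eq_iff_sub_mem).1 h2
  have key'' : ∀ k ∈ K, k ∈ R → ∀ x : V, (∀ t ∈ T, t • x = x) → k • x = x := by
    intro k hk hkR x hx
    rw [← sub_eq_zero]
    apply hZ
    intro t ht
    have h1 := key' (t * k * t⁻¹) (hK.conj_mem k hk t) (mul_mem (mul_mem (hTR ht) hkR) (inv_mem (hTR ht))) x hx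
    have e : (t * k * t⁻¹) • x - x = t • (k • x - x) := by
      rw [smul_sub, hx t ht, mul_smul, mul_smul, hx t⁻¹ (inv_mem ht)]
    rwa [e] at h1
  intro r hr x hx
  have h1 : r ∈ K ⊔ T := by rw [hKT]; trivial
  rw [Subgroup.mem_sup_of_normal_left] at h1
  obtain ⟨k, hk, t, ht, rfl⟩ := h1
  rw [mul_smul, hx t ht]
  refine key'' k hk ?_ x hx
  have h2 := mul_mem hr (inv_mem (hTR ht))
  rwa [mul_inv_cancel_right] at h2

/-- the additive module -/
@[reducible] def addAct (H M : Type*) [Group H] [CommGroup M] [MulDistribMulAction H M] :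
    DistribMulAction H (Additive M) where
  smul h m := Additive.ofMul (h • m.toMul)
  one_smul m := congrArg Additive.ofMul (one_smul H m.toMul)
  mul_smul g h m := congrArg Additive.ofMul (mul_smul g h m.toMul)
  smul_zero h := congrArg Additive.ofMul (smul_one h)
  smul_add h a b := congrArg Additive.ofMul (smul_mul' h a.toMul b.toMul)

/-- **overgroups of `T`**, multiplicative notation -/
theorem fix_kt_mul [F : OppRes.Cox cs] [Finite C] {H : Type*} [Group H] [Finite H] {K T R : Subgroup H} [hK : K.Normal]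
    [MulAction K C] (S : Sys Δ K 2) (hth : Δ.Thick) {N : Type*} [Group N] [MulDistribMulAction H N] [Finite N]
    (sq : ∀ m : N, m * m = 1) (hirr : ∀ L : Subgroup N, (∀ h : H, ∀ w ∈ L, h • w ∈ L) → L = ⊥ ∨ L = ⊤)
    (hKT : K ⊔ T = ⊤) (hT : IsPGroup 2 T) (hTi : ¬ 2 ∣ T.index)
    (hab : ∀ c, ∀ a b : K, a • c = c → b • c = c → a * b * a⁻¹ * b⁻¹ ∈ S.U c) (hTR : T ≤ R)
    {y : N} (hy : y ≠ 1) (hyR : ∀ r ∈ R, r • y = y) : ∀ r ∈ R, ∀ x : N, (∀ t ∈ T, t • x = x) → r • x = x := by
  have hcomm : ∀ a b : N, a * b = b * a := by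
    intro a b
    have h1 : ∀ z : N, z⁻¹ = z := fun z => inv_eq_of_mul_eq_one_right (sq z)
    calc a * b = (a * b)⁻¹ := (h1 _).symm
      _ = b⁻¹ * a⁻¹ := mul_inv_rev _ _
      _ = b * a := by rw [h1, h1]
  let i1 : CommGroup N := { (inferInstance : Group N) with mul_comm := hcomm }
  let i2 : DistribMulAction H (Additive N) := addAct H N
  intro r hr x hx
  have h1 := fix_kt S hth (V := Additive N) (R := R) (fun v => by
      rw [two_nsmul]; exact congrArg Additive.ofMul (sq v.toMul)) (by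
      intro L hL
      have h2 := hirr (AddSubgroup.toSubgroup' L) (fun h w hw => hL h (Additive.ofMul w) hw)
      rcases h2 with h2 | h2
      · left
        rw [eq_bot_iff]
        intro v hv
        have h3 : v.toMul ∈ AddSubgroup.toSubgroup' L := hv
        rw [h2, Subgroup.mem_bot] at h3
        exact (AddSubgroup.mem_bot).2 h3
      · right
        rw [eq_top_iff]
        intro v _
        have h3 : v.toMul ∈ AddSubgroup.toSubgroup' L := by rw [h2]; trivial
        exact h3) hKT hT hTi hab hTR (y := Additive.ofMul y) (fun h => hy h)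
      (fun r hr => congrArg Additive.ofMul (hyR r hr)) r hr (Additive.ofMul x)
      (fun t ht => congrArg Additive.ofMul (hx t ht))
  exact h1

end Cfsg.Agent.Omega.ML.LieRow.CRB
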