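import Cfsg.Agent.Omega.ML.LieRow.CRB.Simple
import Cfsg.Agent.Omega.ML.LieRow.Act

/-!
# Overgroups of `U c` fixing a vector

* `fix_all` : `U c ≤ R ≤ G`, `R` fixes a vector `≠ 0` of the irreducible module `V`, `B/U` abelian: `R` centralises
  `C_V(U c)`;
* `fix_all_kt` : the same for `H = KT`, `M` irreducible for `H`, `T ≤ R ≤ H` fixes the `T`-fixed vector `y ≠ 0`:
  `R` centralises all `T`-fixed vectors.
-/

set_option autoImplicit false
set_option linter.unusedSectionVars false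

namespace Cfsg.Agent.Omega.ML.LieRow.CRB

open Cfsg.Agent.Tits.Core Cfsg.Agent.Tits.Core.Bldg Cfsg.Agent.Tits.Exchange Cfsg.Agent.Tits
open Cfsg.Agent.FixBN Cfsg.Agent.FixBN.Cox Cfsg.Agent.UGT.U2.FOne

variable {I : Type*} {M : CoxeterMatrix I} {W : Type*} [Group W] {cs : CoxeterSystem M W} {C : Type*}
  {Δ : Bldg cs C}

local prefix:100 "ℓ" => cs.length

/-- **overgroups of `U c`** -/
theorem fix_all {G : Type*} [Group G] [MulAction G C] {p : ℕ} (S : Sys Δ G p) [F : OppRes.Cox cs] [Finite C]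
    {V : Type*} [AddCommGroup V] [DistribMulAction G V] (hth : Δ.Thick) [Fact p.Prime] [Finite G] [Finite V]
    (hp : ∀ v : V, p • v = 0) (hirr : Irr G V) {c : C}
    (hab : ∀ a b : G, a • c = c → b • c = c → a * b * a⁻¹ * b⁻¹ ∈ S.U c) {R : Subgroup G} (hR : S.U c ≤ R)
    {y : V} (hy : y ≠ 0) (hyR : ∀ r ∈ R, r • y = y) : ∀ r ∈ R, ∀ v ∈ Fx (V := V) S c, r • v = v := by
  classical
  have : Fintype C := Fintype.ofFinite C
  have : Nontrivial V := ⟨y, 0, hy⟩
  have hs := simple_Fx (S := S) hth hp hirr c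
  -- the normal closure of `U c` in the parabolic
  let D : Subgroup G := ⨆ r : R, S.U ((r : G) • c)
  have hUD : ∀ r ∈ R, S.U (r • c) ≤ D := fun r hr => le_iSup (fun r : R => S.U ((r : G) • c)) ⟨r, hr⟩
  have hcD : S.U c ≤ D := by
    have := hUD 1 (one_mem _)
    rwa [one_smul] at this
  have hDR : D ≤ R := by
    refine iSup_le ?_
    rintro ⟨r, hr⟩ u hu
    have h3 : r * (r⁻¹ * u * r) * r⁻¹ ∈ S.U (r • c) := by
      have : r * (r⁻¹ * u * r) * r⁻¹ = u := by group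
      rwa [this]
    have h4 := hR (S.conj_mem_U_iff.1 h3)
    have h5 := mul_mem (mul_mem hr h4) (inv_mem hr)
    have : r * (r⁻¹ * u * r) * r⁻¹ = u := by group
    rwa [this] at h5
  have hDb : ∀ b : G, b • c = c → ∀ d ∈ D, b * d * b⁻¹ ∈ D := by
    intro b hb d hd
    refine Subgroup.iSup_induction (fun r : R => S.U ((r : G) • c)) (C := fun d => b * d * b⁻¹ ∈ D) hd ?_ ?_ ?_
    · rintro ⟨r, hr⟩ u hu
      have h1 := S.conj_mem_U hu b
      have h2 : b • r • c ∈ Δ.Res (tp Δ R c) c := by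
        show Δ.δ c (b • r • c) ∈ WJ cs _
        have h3 : Δ.δ c (b • r • c) = Δ.δ c (r • c) :=
          calc Δ.δ c (b • r • c) = Δ.δ (b • c) (b • r • c) := by rw [hb]
            _ = _ := S.iso _ _ _
        rw [h3]
        exact delta_mem_tp S hth hR r hr
      obtain ⟨r', hr', he⟩ := exists_smul S hR h2
      rw [← he] at h1
      exact hUD r' hr' h1
    · simp
    · intro a a' ha ha'
      have := mul_mem ha ha'
      have e : b * a * b⁻¹ * (b * a' * b⁻¹) = b * (a * a') * b⁻¹ := by group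
      rwa [e] at this
  -- the fixed vectors of `D`, of `R ∩ B`
  have hyF : y ∈ Fx (V := V) S c := fun u hu => hyR u (hR hu)
  have key : ∀ Q : Subgroup G, (∀ r ∈ Q, r • y = y) →
      (∀ b : G, b • c = c → ∀ q ∈ Q, b * q * b⁻¹ ∈ Q) → ∀ q ∈ Q, ∀ v ∈ Fx (V := V) S c, q • v = v := by
    intro Q hQ hQb
    let L : AddSubgroup V :=
      { carrier := {v | v ∈ Fx (V := V) S c ∧ ∀ q ∈ Q, q • v = v}
        zero_mem' := ⟨zero_mem _, fun q _ => smul_zero q⟩
        add_mem' := fun {a b} ha hb => ⟨add_mem ha.1 hb.1, fun q hq => by rw [smul_add, ha.2 q hq, hb.2 q hq]⟩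
        neg_mem' := fun {a} ha => ⟨neg_mem ha.1, fun q hq => by rw [smul_neg, ha.2 q hq]⟩ }
    have hm : ∀ v, v ∈ L ↔ v ∈ Fx (V := V) S c ∧ ∀ q ∈ Q, q • v = v := fun v => Iff.rfl
    rcases hs L (fun v hv => hv.1) (by
      rintro g hg v ⟨hv, hv'⟩
      have h1 : g • v ∈ Fx (V := V) S c := by
        have := (fam_Fx S).smul g c v hv
        rwa [hg] at this
      refine ⟨h1, fun q hq => ?_⟩
      have hg' : g⁻¹ • c = c := by rw [inv_smul_eq_iff, hg]
      have hs' := hQb g⁻¹ hg' q hq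
      rw [inv_inv] at hs'
      have h2 := hv' _ hs'
      rw [mul_smul, mul_smul, inv_smul_eq_iff] at h2
      exact h2) with h1 | h1
    · exfalso
      have h2 : y ∈ L := ⟨hyF, hQ⟩
      rw [h1, AddSubgroup.mem_bot] at h2
      exact hy h2
    · intro q hq v hv
      have h2 : v ∈ L := by rw [h1]; exact hv
      exact h2.2 q hq
  have hD := key D (fun r hr => hyR r (hDR hr)) hDb
  have hB := key (R ⊓ MulAction.stabilizer G c) (fun r hr => hyR r hr.1) (by
    rintro b hb q ⟨hq, hqc⟩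
    have hqc' : q • c = c := hqc
    refine ⟨?_, ?_⟩
    · have h2 := mul_mem (hR (hab b q hb hqc')) hq
      have e : b * q * b⁻¹ * q⁻¹ * q = b * q * b⁻¹ := by group
      rwa [e] at h2
    · show (b * q * b⁻¹) • c = c
      have hb' : b⁻¹ • c = c := by rw [inv_smul_eq_iff, hb]
      rw [mul_smul, mul_smul, hb', hqc', hb])
  -- `R = D (R ∩ B)`
  intro r hr v hv
  have htp : tp Δ R c ⊆ tp Δ D c := by
    rintro i ⟨g, hg, hgc⟩
    obtain ⟨u, hu, huc⟩ := exists_move_adj S hth (Δ.δ_symm_simple hgc)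
    refine ⟨u, hUD g hg hu, ?_⟩
    have h1 : Δ.δ (g • c) (u • c) = cs.simple i := by
      have h2 : Δ.δ (u • g • c) (u • c) = Δ.δ (g • c) c := S.iso _ _ _
      rw [S.fix _ u hu] at h2
      rw [h2]
      exact Δ.δ_symm_simple hgc
    exact Δ.δ_eq_of_mem_Pan (x := g • c) (Or.inr (Δ.δ_symm_simple hgc)) (Or.inr h1) (fun h => huc h.symm)
  have h1 : r • c ∈ Δ.Res (tp Δ D c) c := by
    show Δ.δ c (r • c) ∈ WJ cs _
    exact OppRes.WJ_mono htp (delta_mem_tp S hth hR r hr)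
  obtain ⟨d, hd, hdc⟩ := exists_smul S hcD h1
  have h2 : (d⁻¹ * r) • v = v := by
    refine hB _ (Subgroup.mem_inf.2 ⟨R.mul_mem (R.inv_mem (hDR hd)) hr, ?_⟩) v hv
    show (d⁻¹ * r) • c = c
    rw [mul_smul, inv_smul_eq_iff, hdc]
  rw [mul_smul, inv_smul_eq_iff, hD d hd v hv] at h2
  exact h2

end Cfsg.Agent.Omega.ML.LieRow.CRB
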