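import Cfsg.Agent.Omega.ML.LieRow.CRB.Tw

/-!
# The theorem of Curtis and Richen in building form, part 2

`V` a finite irreducible `G`-module with `p V = 0`, `S : Sys Δ G p`, `Δ` thick.

* `gal` : induction on galleries: a panel condition and the truth at the opposite chambers imply the truth everywhere;
* `inf_comm` : `C_V(U c) ∩ [V, U d] = 0` for opposite `c`, `d`;
* `exists_stable` : a simple family invariant under all `T_i`;
* **`simple_Fx`** : `C_V(U c)` is a simple module of the stabiliser of `c`.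
-/

set_option autoImplicit false
set_option linter.unusedSectionVars false

namespace Cfsg.Agent.Omega.ML.LieRow.CRB

open Cfsg.Agent.Tits.Core Cfsg.Agent.Tits.Core.Bldg Cfsg.Agent.Tits.Exchange Cfsg.Agent.Tits
open Cfsg.Agent.FixBN Cfsg.Agent.FixBN.Cox

/-! ### `p`-groups on `p`-groups -/

section pgrp

variable {P : Type*} [Group P] {V : Type*} [AddCommGroup V] [DistribMulAction P V] {p : ℕ} [Fact p.Prime]

theorem dvd_card [Finite V] [Nontrivial V] (hp : ∀ v : V, p • v = 0) : p ∣ Nat.card V := by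
  obtain ⟨v, hv⟩ := exists_ne (0 : V)
  rw [← addOrderOf_eq_prime (hp v) hv]
  exact addOrderOf_dvd_natCard v

theorem exists_fixed [Finite V] [Nontrivial V] (hP : IsPGroup p P) (hp : ∀ v : V, p • v = 0) :
    ∃ v : V, v ≠ 0 ∧ ∀ g : P, g • v = v := by
  obtain ⟨b, hb, h⟩ := hP.exists_fixed_point_of_prime_dvd_card_of_fixed_point V (dvd_card hp) (a := 0)
    (fun g => smul_zero g)
  exact ⟨b, fun h' => h h'.symm, fun g => hb g⟩

/-- the quotient module -/
@[reducible] def quoAct {G : Type*} [Group G] [DistribMulAction G V] (L : AddSubgroup V) (hL : ∀ g : G, ∀ v ∈ L, g • v ∈ L) :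
    DistribMulAction G (V ⧸ L) where
  smul g := QuotientAddGroup.map L L (DistribSMul.toAddMonoidHom V g) fun v hv => hL g v hv
  one_smul := by
    intro x
    induction x using QuotientAddGroup.induction_on with
    | H v => exact congrArg _ (one_smul G v)
  mul_smul := by
    intro g h x
    induction x using QuotientAddGroup.induction_on with
    | H v => exact congrArg _ (mul_smul g h v)
  smul_zero := fun g => map_zero _
  smul_add := fun g x y => map_add _ x y

theorem quo_smul {G : Type*} [Group G] [DistribMulAction G V] (L : AddSubgroup V) (hL : ∀ g : G, ∀ v ∈ L, g • v ∈ L) (g : G) (v : V) :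
    letI := quoAct L hL
    g • (QuotientAddGroup.mk v : V ⧸ L) = QuotientAddGroup.mk (g • v) := rfl

/-- the commutator `[V, P]` is proper -/
theorem exists_proper [Finite V] [Nontrivial V] (hP : IsPGroup p P) (hp : ∀ v : V, p • v = 0) :
    ∃ L : AddSubgroup V, L ≠ ⊤ ∧ ∀ g : P, ∀ v, g • v - v ∈ L := by
  have hfin : (Set.univ : Set (AddSubgroup V)).Finite := Set.toFinite _
  have hne : {L : AddSubgroup V | L ≠ ⊤ ∧ ∀ g : P, ∀ v ∈ L, g • v ∈ L}.Nonempty :=
    ⟨⊥, bot_ne_top, fun g v hv => by rw [AddSubgroup.mem_bot] at hv ⊢; rw [hv, smul_zero]⟩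
  obtain ⟨L, hL⟩ := (Set.toFinite {L : AddSubgroup V | L ≠ ⊤ ∧ ∀ g : P, ∀ v ∈ L, g • v ∈ L}).exists_maximal hne
  obtain ⟨hL1, hL2⟩ := hL.prop
  refine ⟨L, hL1, ?_⟩
  -- fixed points of the quotient
  let _ := quoAct L hL2
  have hnt : Nontrivial (V ⧸ L) := by
    rw [← not_subsingleton_iff_nontrivial]
    intro h
    apply hL1
    rw [eq_top_iff]
    intro v _
    exact (QuotientAddGroup.eq_zero_iff v).1 (Subsingleton.elim _ _)
  have hp' : ∀ v : V ⧸ L, p • v = 0 := by
    intro x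
    induction x using QuotientAddGroup.induction_on with
    | H v =>
      rw [← QuotientAddGroup.mk_nsmul, hp]
      rfl
  obtain ⟨x, hx, hfx⟩ := exists_fixed hP hp'
  let L₁ : AddSubgroup V :=
    { carrier := {v | ∀ g : P, g • v - v ∈ L}
      zero_mem' := fun g => by rw [smul_zero, sub_zero]; exact zero_mem _
      add_mem' := fun {a b} ha hb g => by
        have : g • (a + b) - (a + b) = (g • a - a) + (g • b - b) := by rw [smul_add]; abel
        rw [this]
        exact add_mem (ha g) (hb g)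
      neg_mem' := fun {a} ha g => by
        have : g • (-a) - (-a) = -(g • a - a) := by rw [smul_neg]; abel
        rw [this]
        exact neg_mem (ha g) }
  have hm : ∀ v, v ∈ L₁ ↔ ∀ g : P, g • v - v ∈ L := fun v => Iff.rfl
  have hLL : L ≤ L₁ := fun v hv g => sub_mem (hL2 g v hv) hv
  have hinv : ∀ g : P, ∀ v ∈ L₁, g • v ∈ L₁ := by
    intro g v hv h
    have h1 := hv (h * g)
    have h2 := hv g
    have : h • g • v - g • v = ((h * g) • v - v) - (g • v - v) := by rw [mul_smul]; abel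
    rw [this]
    exact sub_mem h1 h2
  have h1 : L₁ = ⊤ := by
    by_contra hne'
    have h2 : L₁ ≤ L := hL.le_of_ge ⟨hne', hinv⟩ hLL
    induction x using QuotientAddGroup.induction_on with
    | H v =>
      apply hx
      rw [QuotientAddGroup.eq_zero_iff]
      apply h2
      intro g
      have h3 := hfx g
      rw [quo_smul] at h3
      have h4 := (QuotientAddGroup.eq_iff_sub_mem).1 h3
      exact h4
  intro g v
  have : v ∈ L₁ := by rw [h1]; trivial
  exact this g

end pgrp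

variable {I : Type*} {M : CoxeterMatrix I} {W : Type*} [Group W] {cs : CoxeterSystem M W} {C : Type*}
  {Δ : Bldg cs C} {G : Type*} [Group G] [MulAction G C] {p : ℕ} (S : Sys Δ G p)
  {V : Type*} [AddCommGroup V] [DistribMulAction G V]

local prefix:100 "ℓ" => cs.length

/-! ### galleries -/

/-- **induction on galleries** -/
theorem gal [F : OppRes.Cox cs] {Pr : C → Prop} (h : ∀ c i, (∀ d, Δ.δ c d = cs.simple i → Pr d) → Pr c) {c₀ : C}
    (h₀ : ∀ d, Δ.Opp c₀ d → Pr d) (c : C) : Pr c := by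
  have key : ∀ n : ℕ, ∀ c, ℓ (w0 cs) - ℓ (Δ.δ c₀ c) = n → Pr c := by
    intro n
    induction n using Nat.strong_induction_on with
    | _ n ih =>
      intro c hn
      by_cases h1 : ∀ i, ℓ (Δ.δ c₀ c * cs.simple i) < ℓ (Δ.δ c₀ c)
      · apply h₀
        exact F.eq_wJ_of_descents (J := Set.univ) (by rw [OppRes.WJ_univ]; trivial) fun j _ => h1 j
      · push Not at h1
        obtain ⟨i, hi⟩ := h1
        have hi' : ℓ (Δ.δ c₀ c) < ℓ (Δ.δ c₀ c * cs.simple i) := by
          rcases cs.length_mul_simple (Δ.δ c₀ c) i with h2 | h2 <;> omega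
        apply h c i
        intro d hd
        have h3 := Δ.step_lt c₀ c d i hd hi'
        refine ih _ ?_ d rfl
        rw [h3]
        have h4 := F.len_mul_w0 (Δ.δ c₀ c * cs.simple i)⁻¹
        rw [cs.length_inv] at h4
        omega
  exact key _ c rfl

/-! ### The two families -/

/-- `C_V(U c)` -/
def Fx (c : C) : AddSubgroup V where
  carrier := {v | ∀ u ∈ S.U c, u • v = v}
  zero_mem' := fun u _ => smul_zero u
  add_mem' := fun {a b} ha hb u hu => by rw [smul_add, ha u hu, hb u hu]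
  neg_mem' := fun {a} ha u hu => by rw [smul_neg, ha u hu]

theorem mem_Fx {c : C} {v : V} : v ∈ Fx S c ↔ ∀ u ∈ S.U c, u • v = v := Iff.rfl

theorem fam_Fx : Fam S (Fx (V := V) S) := by
  refine ⟨fun g c v hv u hu => ?_, fun c u hu v hv => hv u hu⟩
  have h2 : g⁻¹ * u * g ∈ S.U c := by
    have h3 : g * (g⁻¹ * u * g) * g⁻¹ ∈ S.U (g • c) := by
      have : g * (g⁻¹ * u * g) * g⁻¹ = u := by group
      rwa [this]
    exact S.conj_mem_U_iff.1 h3
  have h3 := hv _ h2
  rw [mul_smul, mul_smul, inv_smul_eq_iff] at h3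
  exact h3

theorem le_Fx {N : C → AddSubgroup V} (hN : Fam S N) (c : C) : N c ≤ Fx S c := fun v hv u hu => hN.fix c u hu v hv

/-- `[V, U c]` -/
def Cm (c : C) : AddSubgroup V := AddSubgroup.closure {x | ∃ u ∈ S.U c, ∃ v : V, x = u • v - v}

theorem mem_Cm {c : C} {u : G} (hu : u ∈ S.U c) (v : V) : u • v - v ∈ Cm S c :=
  AddSubgroup.subset_closure ⟨u, hu, v, rfl⟩

theorem smul_mem_Cm {c : C} (g : G) {v : V} (hv : v ∈ Cm S c) : g • v ∈ Cm S (g • c) := by
  induction hv using AddSubgroup.closure_induction with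
  | mem x hx =>
    obtain ⟨u, hu, v, rfl⟩ := hx
    have h1 := mem_Cm S (S.conj_mem_U hu g) (g • v)
    have e : (g * u * g⁻¹) • g • v - g • v = g • (u • v - v) := by
      rw [smul_sub, smul_smul, smul_smul]
      congr 2
      group
    rwa [e] at h1
  | zero => rw [smul_zero]; exact zero_mem _
  | add x y _ _ hx hy => rw [smul_add]; exact add_mem hx hy
  | neg x _ hx => rw [smul_neg]; exact neg_mem hx

variable [Fintype C] [F : OppRes.Cox cs] {S}

/-- the panel condition for families invariant under `T_i` -/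
theorem le_of_panel {N : C → AddSubgroup V} (hN : Fam S N) (hst : ∀ i c, TT S N (cs.simple i) c ≤ N c)
    {L : AddSubgroup V} {c : C} {i : I} (h : ∀ d, Δ.δ c d = cs.simple i → N d ≤ L) : N c ≤ L := by
  classical
  intro v hv
  obtain ⟨a, ha⟩ := Δ.exists_δ c (cs.simple i)
  have ha' := Δ.δ_symm_simple ha
  obtain ⟨φ, hφ, rfl⟩ := exists_coh hN ha' hv
  have h1 : ∑ d ∈ sph Δ a (cs.simple i), φ d ∈ L := h a ha (hst i a ⟨φ, hφ, rfl⟩)
  have h2 : c ∈ sph Δ a (cs.simple i) := (mem_sph Δ).2 ha'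
  rw [← Finset.add_sum_erase _ _ h2] at h1
  have h3 : ∑ d ∈ (sph Δ a (cs.simple i)).erase c, φ d ∈ L := by
    refine AddSubgroup.sum_mem _ fun d hd => ?_
    rw [Finset.mem_erase, mem_sph] at hd
    refine h d ?_ (hφ.mem d hd.2)
    exact Δ.δ_eq_of_mem_Pan (x := a) (Or.inr ha') (Or.inr hd.2) (fun h' => hd.1 h'.symm)
  have h4 := sub_mem h1 h3
  rwa [add_sub_cancel_right] at h4

/-- the dual panel condition -/
theorem mem_Cm_of_panel {c : C} {i : I} {v : V} (h : ∀ d, Δ.δ c d = cs.simple i → v ∈ Cm S d) : v ∈ Cm S c := by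
  classical
  obtain ⟨a, ha⟩ := Δ.exists_δ c (cs.simple i)
  have ha' := Δ.δ_symm_simple ha
  have hch : ∀ e, Δ.δ a e = cs.simple i → ∃ t ∈ S.U a, t • c = e := fun e he => S.exists_move (ha'.trans he.symm)
  choose! t ht hte using hch
  -- claim 1
  have key : ∀ x ∈ Cm (V := V) S a, ∑ e ∈ sph Δ a (cs.simple i), (t e)⁻¹ • x ∈ Cm S c := by
    intro x hx
    induction hx using AddSubgroup.closure_induction with
    | mem x hx =>
      obtain ⟨u, hu, x, rfl⟩ := hx
      have h1 : ∑ e ∈ sph Δ a (cs.simple i), (t e)⁻¹ • (u • x - x) =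
          ∑ e ∈ sph Δ a (cs.simple i), ((t (u • e))⁻¹ • u • x - (t e)⁻¹ • x) := by
        rw [Finset.sum_sub_distrib, sum_fix S (S.fix a u hu) (cs.simple i) fun e => (t e)⁻¹ • u • x,
          ← Finset.sum_sub_distrib]
        exact Finset.sum_congr rfl fun e _ => smul_sub _ _ _
      rw [h1]
      refine AddSubgroup.sum_mem _ fun e he => ?_
      have he' := (mem_sph Δ).1 he
      have hue : Δ.δ a (u • e) = cs.simple i := by rw [← he', ← S.iso u a e, S.fix a u hu]
      have h2 : (t (u • e))⁻¹ * u * t e ∈ S.U a := mul_mem (mul_mem (inv_mem (ht _ hue)) hu) (ht _ he')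
      have h3 : ((t (u • e))⁻¹ * u * t e) • c = c := by
        rw [mul_smul, mul_smul, hte _ he', inv_smul_eq_iff, hte _ hue]
      have h4 := mem_Cm S (S.mem_U_of_fix h2 h3) ((t e)⁻¹ • x)
      have e1 : ((t (u • e))⁻¹ * u * t e) • (t e)⁻¹ • x = (t (u • e))⁻¹ • u • x := by
        rw [smul_smul, smul_smul]
        congr 1
        group
      rwa [e1] at h4
    | zero => simp only [smul_zero, Finset.sum_const_zero]; exact zero_mem _
    | add x y _ _ hx hy =>
      simp only [smul_add, Finset.sum_add_distrib]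
      exact add_mem hx hy
    | neg x _ hx =>
      simp only [smul_neg, Finset.sum_neg_distrib]
      exact neg_mem hx
  have h1 := key v (h a ha)
  have h2 : c ∈ sph Δ a (cs.simple i) := (mem_sph Δ).2 ha'
  rw [← Finset.add_sum_erase _ _ h2] at h1
  have h3 : ∑ e ∈ (sph Δ a (cs.simple i)).erase c, (t e)⁻¹ • v ∈ Cm S c := by
    refine AddSubgroup.sum_mem _ fun e he => ?_
    rw [Finset.mem_erase, mem_sph] at he
    have h4 := h e (Δ.δ_eq_of_mem_Pan (x := a) (Or.inr ha') (Or.inr he.2) (fun h' => he.1 h'.symm))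
    have h5 := smul_mem_Cm S (t e)⁻¹ h4
    rwa [inv_smul_eq_iff.2 (hte e he.2).symm] at h5
  have h4 := sub_mem h1 h3
  rw [add_sub_cancel_right] at h4
  have h5 : (t c)⁻¹ • v - v ∈ Cm S c := mem_Cm S (inv_mem (S.mem_U_of_fix (ht c ha') (hte c ha'))) v
  have h6 := sub_mem h4 h5
  rwa [sub_sub_cancel] at h6

/-! ### irreducible modules -/

/-- no invariant subgroups -/
def Irr (G : Type*) [Group G] (V : Type*) [AddCommGroup V] [DistribMulAction G V] : Prop :=
  ∀ L : AddSubgroup V, (∀ g : G, ∀ v ∈ L, g • v ∈ L) → L = ⊥ ∨ L = ⊤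

/-- simple under the stabilisers -/
def Simp (G : Type*) [Group G] [MulAction G C] {V : Type*} [AddCommGroup V] [DistribMulAction G V]
    (N : C → AddSubgroup V) : Prop :=
  ∀ c, ∀ L ≤ N c, (∀ g : G, g • c = c → ∀ v ∈ L, g • v ∈ L) → L = ⊥ ∨ L = N c

/-- **opposite chambers** -/
theorem inf_comm [Finite V] [Nontrivial V] [Fact p.Prime] (hp : ∀ v : V, p • v = 0) (hirr : Irr G V) {c d : C}
    (hcd : Δ.Opp c d) {v : V} (hv : v ∈ Fx S c) (hv' : v ∈ Cm S d) : v = 0 := by
  have h1 : ∀ e, v ∈ Cm S e := by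
    refine gal (Δ := Δ) (fun a i h => mem_Cm_of_panel h) (c₀ := c) ?_
    intro d' hd'
    obtain ⟨u, hu, rfl⟩ := S.trans c d d' hcd hd'
    have h2 := smul_mem_Cm S u hv'
    rwa [hv u hu] at h2
  -- the intersection of all
  have h2 : (⨅ e, Cm (V := V) S e) = ⊥ ∨ (⨅ e, Cm (V := V) S e) = ⊤ := by
    apply hirr
    intro g x hx
    rw [AddSubgroup.mem_iInf] at hx ⊢
    intro e
    have h3 := smul_mem_Cm S g (hx (g⁻¹ • e))
    rwa [smul_inv_smul] at h3
  rcases h2 with h2 | h2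
  · have h3 : v ∈ (⨅ e, Cm (V := V) S e) := AddSubgroup.mem_iInf.2 h1
    rwa [h2, AddSubgroup.mem_bot] at h3
  · exfalso
    obtain ⟨L, hL, hL'⟩ := exists_proper (P := S.U c) (S.isP c) hp
    apply hL
    rw [eq_top_iff, ← h2]
    refine (iInf_le _ c).trans ((AddSubgroup.closure_le _).2 ?_)
    rintro _ ⟨u, hu, x, rfl⟩
    exact hL' ⟨u, hu⟩ x

/-- `T_w` of a simple family is simple -/
theorem simp_TT {N : C → AddSubgroup V} (hN : Fam S N) (hs : Simp G N) (w : W) : Simp G (TT S N w) := by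
  classical
  intro c L hL hinv
  obtain ⟨d₀, hd₀⟩ := Δ.exists_δ c w
  let L' : AddSubgroup V :=
    { carrier := {v | ∃ φ, Coh S N c w φ ∧ φ d₀ = v ∧ ∑ d ∈ sph Δ c w, φ d ∈ L}
      zero_mem' := ⟨fun _ => 0, ⟨fun d _ => zero_mem _, fun u _ d _ => (smul_zero u).symm⟩, rfl, by
        rw [Finset.sum_const_zero]; exact zero_mem _⟩
      add_mem' := by
        rintro _ _ ⟨φ, hφ, rfl, h1⟩ ⟨ψ, hψ, rfl, h2⟩
        refine ⟨fun d => φ d + ψ d, ⟨fun d hd => add_mem (hφ.mem d hd) (hψ.mem d hd), fun u hu d hd => ?_⟩, rfl, ?_⟩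
        · rw [hφ.eq u hu d hd, hψ.eq u hu d hd, smul_add]
        · rw [Finset.sum_add_distrib]; exact add_mem h1 h2
      neg_mem' := by
        rintro _ ⟨φ, hφ, rfl, h1⟩
        refine ⟨fun d => -φ d, ⟨fun d hd => neg_mem (hφ.mem d hd), fun u hu d hd => ?_⟩, rfl, ?_⟩
        · rw [hφ.eq u hu d hd, smul_neg]
        · rw [Finset.sum_neg_distrib]; exact neg_mem h1 }
  have hm : ∀ v, v ∈ L' ↔ ∃ φ, Coh S N c w φ ∧ φ d₀ = v ∧ ∑ d ∈ sph Δ c w, φ d ∈ L := fun v => Iff.rfl
  have hL'le : L' ≤ N d₀ := by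
    rintro _ ⟨φ, hφ, rfl, -⟩
    exact hφ.mem d₀ hd₀
  have hL'inv : ∀ g : G, g • d₀ = d₀ → ∀ v ∈ L', g • v ∈ L' := by
    rintro g hg _ ⟨φ, hφ, rfl, h1⟩
    obtain ⟨u, hu, huc⟩ := S.exists_move (x := d₀) (z := c) (z' := g • c) (by
      conv_rhs => rw [← hg, S.iso])
    have h2 : (u⁻¹ * g) • c = c := by rw [mul_smul, inv_smul_eq_iff, huc]
    have h3 : (u⁻¹ * g) • d₀ = d₀ := by rw [mul_smul, hg, inv_smul_eq_iff, S.fix d₀ u hu]
    have h4 := hφ.smul hN (u⁻¹ * g)
    rw [h2] at h4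
    have h5 : (u⁻¹ * g)⁻¹ • d₀ = d₀ := by rw [inv_smul_eq_iff, h3]
    have h6 : (u⁻¹ * g) • φ d₀ ∈ L' := by
      refine ⟨_, h4, ?_, ?_⟩
      · show (u⁻¹ * g) • φ ((u⁻¹ * g)⁻¹ • d₀) = _
        rw [h5]
      · have h7 := sum_conj S (u⁻¹ * g) c w φ
        rw [h2] at h7
        rw [h7]
        exact hinv _ h2 _ h1
    have h7 := hN.fix d₀ u hu _ (hL'le h6)
    rw [mul_smul, smul_inv_smul] at h7
    rw [h7, ← mul_smul]
    exact h6
  rcases hs d₀ L' hL'le hL'inv with h1 | h1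
  · left
    rw [eq_bot_iff]
    intro v hv
    obtain ⟨φ, hφ, rfl⟩ := hL hv
    have h2 : φ d₀ ∈ L' := ⟨φ, hφ, rfl, hv⟩
    rw [h1, AddSubgroup.mem_bot] at h2
    have h3 := hφ.ext (ψ := fun _ => 0) ⟨fun d _ => zero_mem _, fun u _ d _ => (smul_zero u).symm⟩ hd₀ h2
    rw [AddSubgroup.mem_bot]
    exact Finset.sum_eq_zero fun d hd => h3 d ((mem_sph Δ).1 hd)
  · right
    refine le_antisymm hL ?_
    rintro _ ⟨ψ, hψ, rfl⟩
    have h2 : ψ d₀ ∈ L' := by rw [h1]; exact hψ.mem d₀ hd₀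
    obtain ⟨φ, hφ, h3, h4⟩ := h2
    have h5 := hφ.ext hψ hd₀ h3
    rwa [Finset.sum_congr rfl fun d hd => h5 d ((mem_sph Δ).1 hd)] at h4

theorem bot_of_bot (hth : Δ.Thick) {N : C → AddSubgroup V} (hN : Fam S N) {c : C} (h : N c = ⊥) (d : C) : N d = ⊥ := by
  obtain ⟨g, rfl⟩ := exists_smul_top S hth c d
  rw [eq_bot_iff]
  intro v hv
  have h1 := hN.smul g⁻¹ _ v hv
  rw [inv_smul_smul, h, AddSubgroup.mem_bot, inv_smul_eq_iff, smul_zero] at h1
  rw [AddSubgroup.mem_bot, h1]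

/-- **a simple family invariant under all `T_i`** -/
theorem exists_stable (hth : Δ.Thick) [Fact p.Prime] [Finite G] (hp : ∀ v : V, p • v = 0) {N : C → AddSubgroup V}
    (hN : Fam S N) (hs : Simp G N) {c : C} (hc : N c ≠ ⊥) :
    ∃ N' : C → AddSubgroup V, Fam S N' ∧ Simp G N' ∧ N' c ≠ ⊥ ∧ ∀ i c, TT S N' (cs.simple i) c ≤ N' c := by
  have key : ∀ n : ℕ, ∀ w, ℓ (w0 cs) - ℓ w = n → TT S N w c ≠ ⊥ →
      ∃ w', TT S N w' c ≠ ⊥ ∧ ∀ i, ℓ w' < ℓ (cs.simple i * w') → TT S N (cs.simple i * w') c = ⊥ := by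
    intro n
    induction n using Nat.strong_induction_on with
    | _ n ih =>
      intro w hn hw
      by_cases h1 : ∀ i, ℓ w < ℓ (cs.simple i * w) → TT S N (cs.simple i * w) c = ⊥
      · exact ⟨w, hw, h1⟩
      · push Not at h1
        obtain ⟨i, hi, hi'⟩ := h1
        refine ih _ ?_ (cs.simple i * w) rfl hi'
        have h4 := F.len_mul_w0 (cs.simple i * w)
        omega
  obtain ⟨w, hw, hmax⟩ := key _ 1 rfl (by rwa [TT_one hN])
  refine ⟨TT S N w, fam_TT hN w, simp_TT hN hs w, hw, ?_⟩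
  intro i a
  rcases cs.length_simple_mul w i with h1 | h1
  · rw [TT_mul hN (by omega), bot_of_bot hth (fam_TT hN _) (hmax i (by omega)) a]
    exact bot_le
  · have h2 : ℓ (cs.simple i * w) < ℓ (cs.simple i * (cs.simple i * w)) := by
      rw [← mul_assoc, cs.simple_mul_simple_self, one_mul]
      omega
    have h3 : TT S (TT S N (cs.simple i * w)) (cs.simple i) = TT S N w := by
      funext b
      rw [TT_mul hN h2, ← mul_assoc, cs.simple_mul_simple_self, one_mul]
    have h4 := TT_sq hth hp (fam_TT hN (cs.simple i * w)) i a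
    rwa [h3] at h4

/-- the family generated by an invariant subgroup -/
theorem exists_fam (hth : Δ.Thick) (c₀ : C) {L : AddSubgroup V} (hL : L ≤ Fx S c₀)
    (hinv : ∀ g : G, g • c₀ = c₀ → ∀ v ∈ L, g • v ∈ L)
    (hs : ∀ L' ≤ L, (∀ g : G, g • c₀ = c₀ → ∀ v ∈ L', g • v ∈ L') → L' = ⊥ ∨ L' = L) :
    ∃ N : C → AddSubgroup V, Fam S N ∧ Simp G N ∧ N c₀ = L := by
  let N : C → AddSubgroup V := fun c =>
    { carrier := {v | ∀ g : G, g • c₀ = c → g⁻¹ • v ∈ L}
      zero_mem' := fun g _ => by rw [smul_zero]; exact zero_mem _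
      add_mem' := fun {a b} ha hb g hg => by rw [smul_add]; exact add_mem (ha g hg) (hb g hg)
      neg_mem' := fun {a} ha g hg => by rw [smul_neg]; exact neg_mem (ha g hg) }
  have hm : ∀ c v, v ∈ N c ↔ ∀ g : G, g • c₀ = c → g⁻¹ • v ∈ L := fun c v => Iff.rfl
  have hm' : ∀ (g : G) v, v ∈ N (g • c₀) ↔ g⁻¹ • v ∈ L := by
    intro g v
    refine ⟨fun h => h g rfl, fun h g' hg' => ?_⟩
    have h1 := hinv (g'⁻¹ * g) (by rw [mul_smul, ← hg', inv_smul_smul]) _ h
    rwa [mul_smul, smul_inv_smul] at h1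
  have h0 : N c₀ = L := by
    ext v
    have := hm' 1 v
    rwa [one_smul, inv_one, one_smul] at this
  have hsm : ∀ (g : G) (c : C), ∀ v ∈ N c, g • v ∈ N (g • c) := by
    intro g c v hv
    obtain ⟨k, rfl⟩ := exists_smul_top S hth c₀ c
    rw [← mul_smul, hm']
    rw [hm'] at hv
    rwa [mul_inv_rev, mul_smul, inv_smul_smul]
  refine ⟨N, ⟨hsm, ?_⟩, ?_, h0⟩
  · intro c u hu v hv
    obtain ⟨k, rfl⟩ := exists_smul_top S hth c₀ c
    rw [hm'] at hv
    have h2 : k⁻¹ * u * k ∈ S.U c₀ := by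
      have h3 : k * (k⁻¹ * u * k) * k⁻¹ ∈ S.U (k • c₀) := by
        have : k * (k⁻¹ * u * k) * k⁻¹ = u := by group
        rwa [this]
      exact S.conj_mem_U_iff.1 h3
    have h3 := hL hv _ h2
    rw [mul_smul, mul_smul, smul_inv_smul, inv_smul_eq_iff, smul_inv_smul] at h3
    exact h3
  · intro c L' hL' hinv'
    obtain ⟨k, rfl⟩ := exists_smul_top S hth c₀ c
    let L'' : AddSubgroup V := L'.comap (DistribSMul.toAddMonoidHom V k)
    have hmm : ∀ v, v ∈ L'' ↔ k • v ∈ L' := fun v => Iff.rfl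
    rcases hs L'' (fun v hv => by
        have h1 := hL' hv
        rw [hm'] at h1
        have h2 : k⁻¹ • (DistribSMul.toAddMonoidHom V k) v = v := inv_smul_smul k v
        rwa [h2] at h1) (by
        intro g hg v hv
        rw [hmm] at hv ⊢
        have h1 := hinv' (k * g * k⁻¹) (by rw [mul_smul, mul_smul, inv_smul_smul, hg]) _ hv
        rwa [mul_smul, mul_smul, inv_smul_smul] at h1) with h1 | h1
    · left
      rw [eq_bot_iff]
      intro v hv
      have h2 : k⁻¹ • v ∈ L'' := by rw [hmm, smul_inv_smul]; exact hv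
      rw [h1, AddSubgroup.mem_bot, inv_smul_eq_iff, smul_zero] at h2
      rw [AddSubgroup.mem_bot, h2]
    · right
      refine le_antisymm hL' fun v hv => ?_
      rw [hm', ← h1, hmm, smul_inv_smul] at hv
      exact hv

/-- **The theorem of Curtis and Richen**: `C_V(U c)` is a simple module of the stabiliser of `c`. -/
theorem simple_Fx (hth : Δ.Thick) [Fact p.Prime] [Finite G] [Finite V] [Nontrivial V] (hp : ∀ v : V, p • v = 0)
    (hirr : Irr G V) : Simp G (Fx (V := V) S) := by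
  intro c
  -- a minimal invariant subgroup of `C_V(U c)`
  have hne : {L : AddSubgroup V | L ≠ ⊥ ∧ L ≤ Fx S c ∧ ∀ g : G, g • c = c → ∀ v ∈ L, g • v ∈ L}.Nonempty := by
    refine ⟨Fx S c, ?_, le_rfl, ?_⟩
    · intro h
      obtain ⟨v, hv, hfv⟩ := exists_fixed (P := S.U c) (V := V) (S.isP c) hp
      have h1 : v ∈ Fx S c := fun u hu => hfv ⟨u, hu⟩
      rw [h, AddSubgroup.mem_bot] at h1
      exact hv h1
    · intro g hg v hv
      have := (fam_Fx S).smul g c v hv
      rwa [hg] at this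
  obtain ⟨L, hL⟩ := (Set.toFinite _).exists_minimal hne
  obtain ⟨hL1, hL2, hL3⟩ := hL.prop
  obtain ⟨N, hN, hNs, hNc⟩ := exists_fam (S := S) hth c hL2 hL3 (by
    intro L' hL' hinv
    by_cases h : L' = ⊥
    · exact Or.inl h
    · exact Or.inr (le_antisymm hL' (hL.le_of_le ⟨h, hL'.trans hL2, hinv⟩ hL')))
  obtain ⟨N', hN', hs', hne', hst⟩ := exists_stable hth hp hN hNs (c := c) (by rwa [hNc])
  -- an opposite chamber
  have hall : ∀ c, N' c = Fx S c := by
    intro c
    obtain ⟨d, hd⟩ := Δ.exists_δ c (w0 cs)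
    have hcd : Δ.Opp c d := hd
    have hdc : Δ.Opp d c := by
      show Δ.δ d c = w0 cs
      rw [Δ.symm c d, hd, F.w0_inv]
    refine le_antisymm (le_Fx S hN' c) ?_
    -- `V = N' c + [V, U d]`
    have h1 : ∀ e, N' e ≤ N' c ⊔ Cm S d := by
      refine gal (Δ := Δ) (fun a i h => le_of_panel hN' hst h) (c₀ := d) ?_
      intro c' hc'
      obtain ⟨u, hu, rfl⟩ := S.trans d c c' hdc hc'
      intro v hv
      have h2 := hN'.smul u⁻¹ _ v hv
      rw [inv_smul_smul] at h2
      have h3 : v = u⁻¹ • v - (u⁻¹ • v - v) := by abel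
      rw [h3]
      exact sub_mem (AddSubgroup.mem_sup_left h2) (AddSubgroup.mem_sup_right (mem_Cm S (inv_mem hu) v))
    have h2 : (⨆ e, N' e) = ⊤ := by
      refine (hirr (⨆ e, N' e) ?_).resolve_left ?_
      · intro g v hv
        have h3 : (⨆ e, N' e) ≤ (⨆ e, N' e).comap (DistribSMul.toAddMonoidHom V g) :=
          iSup_le fun e x hx => AddSubgroup.mem_iSup_of_mem (g • e) (hN'.smul g e x hx)
        exact h3 hv
      · intro h3
        apply hne'
        rw [eq_bot_iff, ← h3]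
        exact le_iSup N' _
    intro v hv
    have h3 : v ∈ N' c ⊔ Cm S d := (iSup_le h1) (by rw [h2]; trivial)
    obtain ⟨n, hn, m, hm, rfl⟩ := AddSubgroup.mem_sup.1 h3
    have h4 : m ∈ Fx S c := by
      have := sub_mem hv (le_Fx S hN' c hn)
      rwa [add_sub_cancel_left] at this
    rw [inf_comm hp hirr hcd h4 hm, add_zero]
    exact hn
  have h1 : N' = Fx S := funext hall
  rw [h1] at hs'
  exact hs' c

end Cfsg.Agent.Omega.ML.LieRow.CRB
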