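import Cfsg.Agent.FixBN.Disp
import Cfsg.Agent.Omega.ML.LieRow.Bld

/-!
# The theorem of Curtis and Richen in building form, part 1: the operators `T_w`

`G` acts on the finite building `Δ` with a system `S` of Sylow `p`-subgroups `U c` (a split (B,N)-pair of
characteristic `p`), `V` is a `G`-module.

* `Fam S N` : an equivariant family `N c ≤ C_V(U c)`;
* `Coh S N c w φ` : the function `φ` on the chambers at distance `w` from `c` is coherent under `U c`;
* `TT S N w` : the family of the sums of the coherent functions; `fam_TT`;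
* `mem_TT_mul`, `mem_TT_of_mul` : `T_i T_w = T_{s_i w}` if the length grows; `TT_sq` : `T_i T_i ≤ T_i` if `p V = 0`.
-/

set_option autoImplicit false
set_option linter.unusedSectionVars false

namespace Cfsg.Agent.Omega.ML.LieRow.CRB

open Cfsg.Agent.Tits.Core Cfsg.Agent.Tits.Core.Bldg Cfsg.Agent.Tits.Exchange Cfsg.Agent.Tits
open Cfsg.Agent.FixBN Cfsg.Agent.FixBN.Cox

variable {I : Type*} {M : CoxeterMatrix I} {W : Type*} [Group W] {cs : CoxeterSystem M W} {C : Type*}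
  {Δ : Bldg cs C} {G : Type*} [Group G] [MulAction G C] {p : ℕ} (S : Sys Δ G p)
  {V : Type*} [AddCommGroup V] [DistribMulAction G V]

local prefix:100 "ℓ" => cs.length

/-- an equivariant family of subgroups of fixed vectors -/
structure Fam (N : C → AddSubgroup V) : Prop where
  smul : ∀ (g : G) (c : C), ∀ v ∈ N c, g • v ∈ N (g • c)
  fix : ∀ c, ∀ u ∈ S.U c, ∀ v ∈ N c, u • v = v

/-- a coherent function on the chambers at distance `w` from `c` -/
structure Coh (N : C → AddSubgroup V) (c : C) (w : W) (φ : C → V) : Prop where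
  mem : ∀ d, Δ.δ c d = w → φ d ∈ N d
  eq : ∀ u ∈ S.U c, ∀ d, Δ.δ c d = w → φ (u • d) = u • φ d

variable (Δ) [Fintype C]

open Classical in
/-- the chambers at distance `w` -/
noncomputable def sph (c : C) (w : W) : Finset C := Finset.univ.filter fun d => Δ.δ c d = w

theorem mem_sph {c d : C} {w : W} : d ∈ sph Δ c w ↔ Δ.δ c d = w := by
  simp [sph]

variable {Δ}

include S in
theorem smul_mem_sph {g : G} {c d : C} {w : W} : g • d ∈ sph Δ (g • c) w ↔ d ∈ sph Δ c w := by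
  rw [mem_sph, mem_sph, S.iso]

include S in
/-- reindexing -/
theorem sum_smul (g : G) (c : C) (w : W) (ψ : C → V) :
    ∑ d ∈ sph Δ (g • c) w, ψ d = ∑ d ∈ sph Δ c w, ψ (g • d) := by
  refine (Finset.sum_bij (fun d _ => g • d) (fun d hd => (smul_mem_sph S).2 hd)
    (fun a _ b _ h => smul_left_cancel g h) (fun b hb => ⟨g⁻¹ • b, ?_, smul_inv_smul g b⟩) fun d _ => rfl).symm
  rwa [← smul_mem_sph S (g := g), smul_inv_smul]

include S in
theorem sum_fix {u : G} {c : C} (hu : u • c = c) (w : W) (ψ : C → V) :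
    ∑ d ∈ sph Δ c w, ψ (u • d) = ∑ d ∈ sph Δ c w, ψ d := by
  rw [← sum_smul S, hu]

/-- the family of the sums of the coherent functions -/
noncomputable def TT (N : C → AddSubgroup V) (w : W) (c : C) : AddSubgroup V where
  carrier := {v | ∃ φ, Coh S N c w φ ∧ v = ∑ d ∈ sph Δ c w, φ d}
  zero_mem' := ⟨fun _ => 0, ⟨fun d _ => zero_mem _, fun u _ d _ => (smul_zero u).symm⟩, by simp⟩
  add_mem' := by
    rintro _ _ ⟨φ, hφ, rfl⟩ ⟨ψ, hψ, rfl⟩
    refine ⟨fun d => φ d + ψ d, ⟨fun d hd => add_mem (hφ.mem d hd) (hψ.mem d hd), fun u hu d hd => ?_⟩,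
      (Finset.sum_add_distrib).symm⟩
    rw [hφ.eq u hu d hd, hψ.eq u hu d hd, smul_add]
  neg_mem' := by
    rintro _ ⟨φ, hφ, rfl⟩
    refine ⟨fun d => -φ d, ⟨fun d hd => neg_mem (hφ.mem d hd), fun u hu d hd => ?_⟩,
      (Finset.sum_neg_distrib _).symm⟩
    rw [hφ.eq u hu d hd, smul_neg]

variable {S} {N : C → AddSubgroup V}

theorem mem_TT {w : W} {c : C} {v : V} : v ∈ TT S N w c ↔ ∃ φ, Coh S N c w φ ∧ v = ∑ d ∈ sph Δ c w, φ d := Iff.rfl

omit [Fintype C] in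
theorem Coh.smul (hN : Fam S N) {c : C} {w : W} {φ : C → V} (h : Coh S N c w φ) (g : G) :
    Coh S N (g • c) w fun d => g • φ (g⁻¹ • d) := by
  constructor
  · intro d hd
    have h1 : Δ.δ c (g⁻¹ • d) = w := by rw [← S.iso g, smul_inv_smul, hd]
    have h2 := hN.smul g _ _ (h.mem _ h1)
    rwa [smul_inv_smul] at h2
  · intro u hu d hd
    have h1 : Δ.δ c (g⁻¹ • d) = w := by rw [← S.iso g, smul_inv_smul, hd]
    have h2 : g⁻¹ * u * g ∈ S.U c := by
      have h3 : g * (g⁻¹ * u * g) * g⁻¹ ∈ S.U (g • c) := by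
        have : g * (g⁻¹ * u * g) * g⁻¹ = u := by group
        rwa [this]
      exact S.conj_mem_U_iff.1 h3
    have h3 := h.eq _ h2 _ h1
    have e : (g⁻¹ * u * g) • g⁻¹ • d = g⁻¹ • u • d := by
      rw [smul_smul, smul_smul]; congr 1; group
    rw [e] at h3
    show g • φ (g⁻¹ • u • d) = u • g • φ (g⁻¹ • d)
    rw [h3, smul_smul, smul_smul]
    congr 1
    group

variable (S) in
include S in
theorem sum_conj (g : G) (c : C) (w : W) (φ : C → V) :
    ∑ d ∈ sph Δ (g • c) w, g • φ (g⁻¹ • d) = g • ∑ d ∈ sph Δ c w, φ d := by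
  rw [sum_smul S g c w fun d => g • φ (g⁻¹ • d), Finset.smul_sum]
  exact Finset.sum_congr rfl fun d _ => by rw [inv_smul_smul]

theorem fam_TT (hN : Fam S N) (w : W) : Fam S (TT S N w) := by
  constructor
  · rintro g c _ ⟨φ, hφ, rfl⟩
    exact ⟨_, hφ.smul hN g, (sum_conj S g c w φ).symm⟩
  · rintro c u hu _ ⟨φ, hφ, rfl⟩
    rw [Finset.smul_sum]
    rw [← sum_fix S (S.fix c u hu) w φ]
    exact Finset.sum_congr rfl fun d hd => (hφ.eq u hu d ((mem_sph Δ).1 hd)).symm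

theorem TT_mono {N N' : C → AddSubgroup V} (h : ∀ c, N c ≤ N' c) (w : W) (c : C) : TT S N w c ≤ TT S N' w c := by
  rintro _ ⟨φ, hφ, rfl⟩
  exact ⟨φ, ⟨fun d hd => h d (hφ.mem d hd), hφ.eq⟩, rfl⟩

theorem TT_one (hN : Fam S N) (c : C) : TT S N 1 c = N c := by
  have h0 : sph Δ c 1 = {c} := by
    ext d
    rw [mem_sph, Finset.mem_singleton, Δ.eq_one]
    exact eq_comm
  apply le_antisymm
  · rintro _ ⟨φ, hφ, rfl⟩
    rw [h0, Finset.sum_singleton]
    exact hφ.mem c (Δ.δ_self c)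
  · intro v hv
    refine ⟨fun _ => v, ⟨fun d hd => ?_, fun u hu d hd => ?_⟩, ?_⟩
    · rwa [← (Δ.eq_one c d).1 hd]
    · exact (hN.fix c u hu v hv).symm
    · rw [h0, Finset.sum_singleton]

variable [F : OppRes.Cox cs]

/-- a coherent function is determined by one value -/
theorem Coh.ext {c : C} {w : W} {φ ψ : C → V} (h : Coh S N c w φ) (h' : Coh S N c w ψ) {d₀ : C}
    (hd₀ : Δ.δ c d₀ = w) (he : φ d₀ = ψ d₀) : ∀ d, Δ.δ c d = w → φ d = ψ d := by
  intro d hd
  obtain ⟨u, hu, rfl⟩ := S.exists_move (hd₀.trans hd.symm)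
  rw [h.eq u hu d₀ hd₀, h'.eq u hu d₀ hd₀, he]

/-- a coherent function with a given value -/
theorem exists_coh (hN : Fam S N) {c d₀ : C} {w : W} (hd₀ : Δ.δ c d₀ = w) {v : V} (hv : v ∈ N d₀) :
    ∃ φ, Coh S N c w φ ∧ φ d₀ = v := by
  classical
  have hch : ∀ d, Δ.δ c d = w → ∃ u ∈ S.U c, u • d₀ = d := fun d hd => S.exists_move (hd₀.trans hd.symm)
  choose! t ht htd using hch
  have key : ∀ u ∈ S.U c, u • d₀ = d₀ → u • v = v := fun u hu hud => hN.fix d₀ u (S.mem_U_of_fix hu hud) v hv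
  have key' : ∀ u ∈ S.U c, ∀ u' ∈ S.U c, u • d₀ = u' • d₀ → u • v = u' • v := by
    intro u hu u' hu' h
    have h1 := key (u'⁻¹ * u) (mul_mem (inv_mem hu') hu) (by rw [mul_smul, h, inv_smul_smul])
    rw [mul_smul, inv_smul_eq_iff] at h1
    exact h1
  refine ⟨fun d => t d • v, ⟨fun d hd => ?_, fun u hu d hd => ?_⟩, ?_⟩
  · have := hN.smul (t d) d₀ v hv
    rwa [htd d hd] at this
  · have hud : Δ.δ c (u • d) = w := by
      rw [← hd, ← S.iso u c d, S.fix c u hu]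
    show t (u • d) • v = u • t d • v
    rw [← mul_smul]
    refine key' _ (ht _ hud) _ (mul_mem hu (ht _ hd)) ?_
    rw [htd _ hud, mul_smul, htd _ hd]
  · exact (key' _ (ht _ hd₀) 1 (one_mem _) (by rw [htd _ hd₀, one_smul])).trans (one_smul _ _)

/-- **lifting** a coherent function with values in `T_w N` -/
theorem exists_lift (hN : Fam S N) {c : C} {v w : W} {ψ : C → V} (hψ : Coh S (TT S N w) c v ψ) :
    ∃ Φ : C → C → V, (∀ a, Δ.δ c a = v → Coh S N a w (Φ a) ∧ ψ a = ∑ d ∈ sph Δ a w, Φ a d) ∧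
      ∀ a, Δ.δ c a = v → ∀ u ∈ S.U c, ∀ d, Δ.δ a d = w → Φ (u • a) (u • d) = u • Φ a d := by
  classical
  obtain ⟨a₀, ha₀⟩ := Δ.exists_δ c v
  obtain ⟨φ₀, hφ₀, hψ₀⟩ := mem_TT.1 (hψ.mem a₀ ha₀)
  have hch : ∀ a, Δ.δ c a = v → ∃ u ∈ S.U c, u • a₀ = a := fun a ha => S.exists_move (ha₀.trans ha.symm)
  choose! t ht hta using hch
  have hcoh : ∀ a, Δ.δ c a = v → ∀ u ∈ S.U c, ∀ d, Δ.δ a d = w →
      t (u • a) • φ₀ ((t (u • a))⁻¹ • u • d) = u • t a • φ₀ ((t a)⁻¹ • d) := by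
    intro a ha u hu d hd
    have hua : Δ.δ c (u • a) = v := by rw [← ha, ← S.iso u c a, S.fix c u hu]
    have h1 : (t (u • a))⁻¹ * u * t a ∈ S.U c := mul_mem (mul_mem (inv_mem (ht _ hua)) hu) (ht _ ha)
    have h2 : ((t (u • a))⁻¹ * u * t a) • a₀ = a₀ := by
      rw [mul_smul, mul_smul, hta _ ha, inv_smul_eq_iff, hta _ hua]
    have h3 := S.mem_U_of_fix h1 h2
    have h4 : Δ.δ a₀ ((t a)⁻¹ • d) = w := by
      rw [← hd, ← S.iso (t a) a₀, smul_inv_smul, hta _ ha]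
    have h5 := hφ₀.eq _ h3 _ h4
    have e : ((t (u • a))⁻¹ * u * t a) • (t a)⁻¹ • d = (t (u • a))⁻¹ • u • d := by
      rw [smul_smul, smul_smul]; congr 1; group
    rw [e] at h5
    rw [h5, smul_smul, smul_smul]
    congr 1
    group
  refine ⟨fun a d => t a • φ₀ ((t a)⁻¹ • d), fun a ha => ⟨?_, ?_⟩, hcoh⟩
  · have h1 := hφ₀.smul hN (t a)
    rwa [hta _ ha] at h1
  · have h1 := sum_conj S (t a) a₀ w φ₀
    rw [hta _ ha] at h1
    rw [h1, ← hψ₀]
    have h2 := hψ.eq (t a) (ht _ ha) a₀ ha₀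
    rwa [hta _ ha] at h2

/-- `T_i T_w ≤ T_{s_i w}` if the length grows -/
theorem TT_TT_le (hN : Fam S N) {w : W} {i : I} (hl : ℓ w < ℓ (cs.simple i * w)) (c : C) :
    TT S (TT S N w) (cs.simple i) c ≤ TT S N (cs.simple i * w) c := by
  classical
  rintro _ ⟨ψ, hψ, rfl⟩
  obtain ⟨Φ, h1, h2⟩ := exists_lift hN hψ
  -- the first chamber
  have hl' : ℓ (cs.simple i * w) = ℓ (cs.simple i) + ℓ w := by
    have h4 := cs.length_simple_mul w i
    rw [cs.length_simple]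
    omega
  have hfst : ∀ d, Δ.δ c d = cs.simple i * w → ∃ a, Δ.δ c a = cs.simple i ∧ Δ.δ a d = w := by
    intro d hd
    obtain ⟨a, ha, ha'⟩ := exists_first Δ (x := c) (y := d) (i := i) (by
      rw [hd, ← mul_assoc, cs.simple_mul_simple_self, one_mul]; exact hl)
    refine ⟨a, ha, ?_⟩
    rw [ha', hd, ← mul_assoc, cs.simple_mul_simple_self, one_mul]
  choose! f hf1 hf2 using hfst
  have huniq : ∀ d a, Δ.δ c a = cs.simple i → Δ.δ a d = w → f d = a := by
    intro d a ha ha'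
    have hd := Δ.δ_mul_of ha ha' hl'
    exact Δ.between_unique hl' (hf1 d hd) (hf2 d hd) ha ha'
  refine ⟨fun d => Φ (f d) d, ⟨fun d hd => (h1 _ (hf1 d hd)).1.mem d (hf2 d hd), fun u hu d hd => ?_⟩, ?_⟩
  · have h3 : f (u • d) = u • f d := by
      apply huniq
      · rw [← hf1 d hd, ← S.iso u c (f d), S.fix c u hu]
      · rw [S.iso, hf2 d hd]
    show Φ (f (u • d)) (u • d) = u • Φ (f d) d
    rw [h3, h2 _ (hf1 d hd) u hu d (hf2 d hd)]
  · have h3 : ∑ a ∈ sph Δ c (cs.simple i), ψ a =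
        ∑ a ∈ sph Δ c (cs.simple i), ∑ d ∈ sph Δ a w, Φ a d :=
      Finset.sum_congr rfl fun a ha => (h1 a ((mem_sph Δ).1 ha)).2
    rw [h3, Finset.sum_sigma']
    refine Finset.sum_bij (fun x _ => x.2) ?_ ?_ ?_ ?_
    · rintro ⟨a, d⟩ hx
      rw [Finset.mem_sigma] at hx
      obtain ⟨ha, hd⟩ := hx
      rw [mem_sph] at ha hd ⊢
      exact Δ.δ_mul_of ha hd hl'
    · rintro ⟨a, d⟩ hx ⟨a', d'⟩ hx' h
      rw [Finset.mem_sigma] at hx hx'
      obtain ⟨ha, hd⟩ := hx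
      obtain ⟨ha', hd'⟩ := hx'
      rw [mem_sph] at ha hd ha' hd'
      dsimp only at ha hd ha' hd' h
      subst h
      rw [← huniq d a ha hd, ← huniq d a' ha' hd']
    · intro d hd
      rw [mem_sph] at hd
      refine ⟨⟨f d, d⟩, ?_, rfl⟩
      rw [Finset.mem_sigma]
      exact ⟨(mem_sph Δ).2 (hf1 d hd), (mem_sph Δ).2 (hf2 d hd)⟩
    · rintro ⟨a, d⟩ hx
      rw [Finset.mem_sigma] at hx
      obtain ⟨ha, hd⟩ := hx
      rw [mem_sph] at ha hd
      dsimp only at ha hd ⊢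
      rw [huniq d a ha hd]

/-- `T_{s_i w} ≤ T_i T_w` if the length grows -/
theorem le_TT_TT (hN : Fam S N) {w : W} {i : I} (hl : ℓ w < ℓ (cs.simple i * w)) (c : C) :
    TT S N (cs.simple i * w) c ≤ TT S (TT S N w) (cs.simple i) c := by
  classical
  rintro _ ⟨φ, hφ, rfl⟩
  have hl' : ℓ (cs.simple i * w) = ℓ (cs.simple i) + ℓ w := by
    have h4 := cs.length_simple_mul w i
    rw [cs.length_simple]
    omega
  have hfst : ∀ d, Δ.δ c d = cs.simple i * w → ∃ a, Δ.δ c a = cs.simple i ∧ Δ.δ a d = w := by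
    intro d hd
    obtain ⟨a, ha, ha'⟩ := exists_first Δ (x := c) (y := d) (i := i) (by
      rw [hd, ← mul_assoc, cs.simple_mul_simple_self, one_mul]; exact hl)
    refine ⟨a, ha, ?_⟩
    rw [ha', hd, ← mul_assoc, cs.simple_mul_simple_self, one_mul]
  choose! f hf1 hf2 using hfst
  have huniq : ∀ d a, Δ.δ c a = cs.simple i → Δ.δ a d = w → f d = a := by
    intro d a ha ha'
    have hd := Δ.δ_mul_of ha ha' hl'
    exact Δ.between_unique hl' (hf1 d hd) (hf2 d hd) ha ha'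
  refine ⟨fun a => ∑ d ∈ sph Δ a w, φ d, ⟨fun a ha => ⟨φ, ⟨fun d hd => hφ.mem d (Δ.δ_mul_of ha hd hl'), ?_⟩, rfl⟩,
    fun u hu a ha => ?_⟩, ?_⟩
  · -- coherence under `U a`
    intro u hu d hd
    have hd1 := Δ.δ_mul_of ha hd hl'
    have hud : Δ.δ a (u • d) = w := by rw [← hd, ← S.iso u a d, S.fix a u hu]
    have hud1 := Δ.δ_mul_of ha hud hl'
    obtain ⟨u', hu', hu'd⟩ := S.exists_move (hd1.trans hud1.symm)
    have h3 : u' • a = a := by
      have h4 : f (u • d) = a := huniq _ _ ha hud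
      rw [← h4, ← hu'd]
      symm
      apply huniq
      · rw [hu'd, h4, ← ha, ← S.iso u' c a, S.fix c u' hu']
      · rw [hu'd, h4, ← hu'd, S.iso, hd]
    have h5 : u' ∈ S.U a := S.mem_U_of_fix hu' h3
    have h6 : u'⁻¹ * u ∈ S.U d := by
      refine S.mem_U_of_fix (mul_mem (inv_mem h5) hu) ?_
      rw [mul_smul, inv_smul_eq_iff, hu'd]
    have h7 := hN.fix d _ h6 _ (hφ.mem d hd1)
    rw [mul_smul, inv_smul_eq_iff] at h7
    rw [h7, ← hu'd, hφ.eq u' hu' d hd1]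
  · show ∑ d ∈ sph Δ (u • a) w, φ d = u • ∑ d ∈ sph Δ a w, φ d
    rw [sum_smul S, Finset.smul_sum]
    exact Finset.sum_congr rfl fun d hd => hφ.eq u hu d (Δ.δ_mul_of ha ((mem_sph Δ).1 hd) hl')
  · rw [Finset.sum_sigma']
    symm
    refine Finset.sum_bij (fun x _ => x.2) ?_ ?_ ?_ fun _ _ => rfl
    · rintro ⟨a, d⟩ hx
      rw [Finset.mem_sigma] at hx
      obtain ⟨ha, hd⟩ := hx
      rw [mem_sph] at ha hd ⊢
      exact Δ.δ_mul_of ha hd hl'
    · rintro ⟨a, d⟩ hx ⟨a', d'⟩ hx' h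
      rw [Finset.mem_sigma] at hx hx'
      obtain ⟨ha, hd⟩ := hx
      obtain ⟨ha', hd'⟩ := hx'
      rw [mem_sph] at ha hd ha' hd'
      dsimp only at ha hd ha' hd' h
      subst h
      rw [← huniq d a ha hd, ← huniq d a' ha' hd']
    · intro d hd
      rw [mem_sph] at hd
      refine ⟨⟨f d, d⟩, ?_, rfl⟩
      rw [Finset.mem_sigma]
      exact ⟨(mem_sph Δ).2 (hf1 d hd), (mem_sph Δ).2 (hf2 d hd)⟩

theorem TT_mul (hN : Fam S N) {w : W} {i : I} (hl : ℓ w < ℓ (cs.simple i * w)) (c : C) :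
    TT S (TT S N w) (cs.simple i) c = TT S N (cs.simple i * w) c :=
  le_antisymm (TT_TT_le hN hl c) (le_TT_TT hN hl c)

variable (S) in
include S in
/-- the number of the other chambers of a panel is divisible by `p` -/
theorem dvd_card_sph (hth : Δ.Thick) [Fact p.Prime] [Finite G] (c : C) (i : I) : p ∣ (sph Δ c (cs.simple i)).card := by
  classical
  obtain ⟨a, b, hab, ha, hb⟩ := hth c i
  have h1 : (sph Δ c (cs.simple i) : Set C) = MulAction.orbit (S.U c) a := by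
    ext d
    rw [Finset.mem_coe, mem_sph]
    constructor
    · intro hd
      obtain ⟨u, hu, hud⟩ := S.exists_move (ha.trans hd.symm)
      exact ⟨⟨u, hu⟩, hud⟩
    · rintro ⟨⟨u, hu⟩, rfl⟩
      show Δ.δ c (u • a) = _
      rw [← ha, ← S.iso u c a, S.fix c u hu]
  have h2 : Nat.card (MulAction.orbit (S.U c) a) = (sph Δ c (cs.simple i)).card := by
    rw [← h1, Nat.card_coe_set_eq, Set.ncard_coe_finset]
  obtain ⟨n, hn⟩ := (S.isP c).card_orbit a
  rw [h2] at hn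
  rw [hn]
  cases n with
  | zero =>
    exfalso
    rw [pow_zero, Finset.card_eq_one] at hn
    obtain ⟨x, hx⟩ := hn
    have h3 : a ∈ sph Δ c (cs.simple i) := (mem_sph Δ).2 ha
    have h4 : b ∈ sph Δ c (cs.simple i) := (mem_sph Δ).2 hb
    rw [hx, Finset.mem_singleton] at h3 h4
    exact hab (h3.trans h4.symm)
  | succ n => exact dvd_pow_self p (Nat.succ_ne_zero n)

/-- **`T_i T_i ≤ T_i`** in characteristic `p` -/
theorem TT_sq (hth : Δ.Thick) [Fact p.Prime] [Finite G] (hp : ∀ v : V, p • v = 0) (hN : Fam S N) (i : I) (c : C) :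
    TT S (TT S N (cs.simple i)) (cs.simple i) c ≤ TT S N (cs.simple i) c := by
  classical
  rintro _ ⟨ψ, hψ, rfl⟩
  obtain ⟨Φ, h1, h2⟩ := exists_lift hN hψ
  have hadj : ∀ {a d : C}, Δ.δ c a = cs.simple i → Δ.δ c d = cs.simple i → a ≠ d → Δ.δ a d = cs.simple i :=
    fun ha hd h => Δ.δ_eq_of_mem_Pan (Or.inr ha) (Or.inr hd) h
  have hpan : ∀ {a d : C}, Δ.δ c a = cs.simple i → (Δ.δ a d = cs.simple i ↔ (d = c ∨ (Δ.δ c d = cs.simple i ∧ a ≠ d))) := by
    intro a d ha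
    constructor
    · intro hd
      by_cases h : d = c
      · exact Or.inl h
      · right
        refine ⟨Δ.δ_eq_of_mem_Pan (x := a) (Or.inr (Δ.δ_symm_simple ha)) (Or.inr hd) (fun h' => h h'.symm), ?_⟩
        exact Δ.ne_of_δ_simple hd
    · rintro (rfl | ⟨h3, h4⟩)
      · exact Δ.δ_symm_simple ha
      · exact hadj ha h3 h4
  -- the two parts
  set P := sph Δ c (cs.simple i) with hP
  have hsum : ∀ a ∈ P, ψ a = Φ a c + ∑ d ∈ P, if a = d then 0 else Φ a d := by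
    intro a ha
    have ha' := (mem_sph Δ).1 ha
    rw [(h1 a ha').2]
    have h3 : sph Δ a (cs.simple i) = insert c (P.filter fun d => a ≠ d) := by
      ext d
      rw [mem_sph, hpan ha', Finset.mem_insert, Finset.mem_filter, mem_sph]
    have h4 : c ∉ P.filter fun d => a ≠ d := by
      rw [Finset.mem_filter, mem_sph]
      rintro ⟨h5, -⟩
      exact Δ.ne_of_δ_simple h5 rfl
    rw [h3, Finset.sum_insert h4, Finset.sum_filter]
    congr 1
    refine Finset.sum_congr rfl fun d _ => ?_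
    by_cases h : a = d <;> simp [h]
  rw [Finset.sum_congr rfl hsum, Finset.sum_add_distrib]
  -- the first part is zero
  obtain ⟨a₀, ha₀⟩ := Δ.exists_δ c (cs.simple i)
  have hz : ∑ a ∈ P, Φ a c = 0 := by
    have h3 : ∀ a ∈ P, Φ a c = Φ a₀ c := by
      intro a ha
      have ha' := (mem_sph Δ).1 ha
      obtain ⟨u, hu, rfl⟩ := S.exists_move (ha₀.trans ha'.symm)
      have h4 := h2 a₀ ha₀ u hu c (Δ.δ_symm_simple ha₀)
      rw [S.fix c u hu] at h4
      rw [h4]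
      exact hN.fix c u hu _ ((h1 a₀ ha₀).1.mem c (Δ.δ_symm_simple ha₀))
    rw [Finset.sum_congr rfl h3, Finset.sum_const]
    obtain ⟨m, hm⟩ := dvd_card_sph S hth c i
    rw [hm, mul_smul, smul_comm, hp, smul_zero]
  rw [hz, zero_add, Finset.sum_comm]
  refine ⟨fun d => ∑ a ∈ P, if a = d then 0 else Φ a d, ⟨fun d hd => ?_, fun u hu d hd => ?_⟩, rfl⟩
  · refine AddSubgroup.sum_mem _ fun a ha => ?_
    by_cases h : a = d
    · rw [if_pos h]; exact zero_mem _
    · rw [if_neg h]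
      have ha' := (mem_sph Δ).1 ha
      exact (h1 a ha').1.mem d (hadj ha' hd h)
  · show (∑ a ∈ P, if a = u • d then 0 else Φ a (u • d)) = u • ∑ a ∈ P, if a = d then 0 else Φ a d
    rw [hP, ← sum_fix S (S.fix c u hu) (cs.simple i) (fun a => if a = u • d then 0 else Φ a (u • d)), Finset.smul_sum]
    refine Finset.sum_congr rfl fun a ha => ?_
    have ha' := (mem_sph Δ).1 ha
    by_cases h : a = d
    · rw [if_pos h, if_pos (by rw [h]), smul_zero]
    · rw [if_neg h, if_neg (fun h' => h (smul_left_cancel u h')), h2 a ha' u hu d (hadj ha' hd h)]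

end Cfsg.Agent.Omega.ML.LieRow.CRB
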